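import Mathlib.Algebra.Homology.DerivedCategory.Ext.ExtClass
import Mathlib.Algebra.Homology.DerivedCategory.Ext.ExactSequences
import Mathlib.CategoryTheory.Abelian.Refinements

/-!
Extensions fitting under a given diagram `S.X₁ ⟶ Q`, `S.X₃ ↠ P`.
-/

universe w v u

open CategoryTheory CategoryTheory.Limits CategoryTheory.Abelian

namespace Groth.Agent.ExtUnder

variable {C : Type u} [Category.{v} C] [Abelian C] [HasExt.{w} C]

theorem exists_pushout_ext {S : ShortComplex C} (hS : S.ShortExact) {Q : C} (φ : S.X₁ ⟶ Q) :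
    ∃ (E : C) (α : Q ⟶ E) (β : E ⟶ S.X₃) (m : S.X₂ ⟶ E) (w : α ≫ β = 0)
      (h : (ShortComplex.mk α β w).ShortExact),
      S.f ≫ m = φ ≫ α ∧ m ≫ β = S.g ∧ h.extClass = hS.extClass.comp (Ext.mk₀ φ) (add_zero 1) := by
  have := hS.mono_f; have := hS.epi_g
  let β : pushout S.f φ ⟶ S.X₃ := pushout.desc S.g 0 (by simp)
  have w : pushout.inr S.f φ ≫ β = 0 := pushout.inr_desc _ _ _
  have hepi : Epi β := epi_of_epi_fac (pushout.inl_desc S.g (0 : Q ⟶ S.X₃) (by simp))
  let hc : IsColimit (CokernelCofork.ofπ β w) :=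
    CokernelCofork.IsColimit.ofπ β w
      (fun t ht => hS.exact.desc (pushout.inl S.f φ ≫ t) (by
        rw [← Category.assoc, pushout.condition, Category.assoc, ht, comp_zero]))
      (fun t ht => pushout.hom_ext
        (by rw [← Category.assoc, pushout.inl_desc]; exact hS.exact.g_desc _ _)
        (by rw [← Category.assoc, w, zero_comp, ht]))
      (fun t ht m hm => by
        apply (cancel_epi S.g).1
        refine Eq.trans ?_ (hS.exact.g_desc _ _).symm
        rw [← hm, ← Category.assoc, pushout.inl_desc])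
  have h : (ShortComplex.mk (pushout.inr S.f φ) β w).ShortExact :=
    { exact := ShortComplex.exact_of_g_is_cokernel _ hc
      mono_f := inferInstanceAs (Mono (pushout.inr S.f φ))
      epi_g := hepi }
  refine ⟨_, pushout.inr S.f φ, β, pushout.inl S.f φ, w, h, pushout.condition,
    pushout.inl_desc _ _ _, ?_⟩
  have := ShortComplex.ShortExact.extClass_naturality hS h
    { τ₁ := φ
      τ₂ := pushout.inl S.f φ
      τ₃ := 𝟙 S.X₃
      comm₁₂ := (pushout.condition (f := S.f) (g := φ)).symm
      comm₂₃ := (pushout.inl_desc _ _ _).trans (Category.comp_id _).symm }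
  rw [Ext.mk₀_id_comp] at this
  exact this.symm

theorem main {S : ShortComplex C} (hS : S.ShortExact) {Q P : C} (φ : S.X₁ ⟶ Q) (π : S.X₃ ⟶ P) [Epi π] :
    (∃ (B : C) (f : Q ⟶ B) (g : B ⟶ P) (h : S.X₂ ⟶ B) (w : f ≫ g = 0),
        (ShortComplex.mk f g w).ShortExact ∧ S.f ≫ h = φ ≫ f ∧ h ≫ g = S.g ≫ π) ↔
      (Ext.mk₀ (kernel.ι π)).comp (hS.extClass.comp (Ext.mk₀ φ) (add_zero 1)) (zero_add 1) = 0 := by
  constructor
  · rintro ⟨B, f, g, h, w, hB, h₁, h₂⟩
    have := ShortComplex.ShortExact.extClass_naturality hS hB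
      { τ₁ := φ, τ₂ := h, τ₃ := π, comm₁₂ := h₁.symm, comm₂₃ := h₂ }
    rw [this, Ext.mk₀_comp_mk₀_assoc, kernel.condition, Ext.mk₀_zero, Ext.zero_comp]
  · intro hzero
    obtain ⟨E, α, β, m, w, hE, hm₁, hm₂, hcls⟩ := exists_pushout_ext hS φ
    rw [← hcls] at hzero
    obtain ⟨x, hx⟩ := Ext.covariant_sequence_exact₃ _ hE (Ext.mk₀ (kernel.ι π)) (zero_add 1) hzero
    obtain ⟨s, rfl⟩ := Ext.mk₀_bijective _ _ |>.2 x
    rw [Ext.mk₀_comp_mk₀] at hx
    replace hx : s ≫ β = kernel.ι π := (Ext.mk₀_bijective _ _).1 hx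
    have := hE.mono_f; have := hE.epi_g
    let g : cokernel s ⟶ P := cokernel.desc s (β ≫ π) (by rw [reassoc_of% hx, kernel.condition])
    have hwg : (α ≫ cokernel.π s) ≫ g = 0 := by simp [g, reassoc_of% w]
    refine ⟨cokernel s, α ≫ cokernel.π s, g, m ≫ cokernel.π s, hwg, ?_, ?_, ?_⟩
    · have hepi : Epi g := by
        have : cokernel.π s ≫ g = β ≫ π := cokernel.π_desc _ _ _
        exact epi_of_epi_fac this
      have hexs : (ShortComplex.mk s (cokernel.π s) (cokernel.condition s)).Exact :=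
        ShortComplex.exact_cokernel s
      have hmono : Mono (α ≫ cokernel.π s) := by
        refine Preadditive.mono_of_cancel_zero _ fun {T} q hq => ?_
        obtain ⟨T', p, hp, a, ha⟩ := hexs.exact_up_to_refinements (q ≫ α) (by simpa using hq)
        dsimp at ha
        have h0 : a ≫ kernel.ι π = 0 := by
          rw [← hx, ← Category.assoc, ← ha, Category.assoc, Category.assoc, w, comp_zero, comp_zero]
        have ha0 : a = 0 := zero_of_comp_mono _ h0
        rw [ha0, zero_comp, ← Category.assoc] at ha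
        have := zero_of_comp_mono α ha
        exact (cancel_epi p).1 (this.trans comp_zero.symm)
      refine { exact := ?_, mono_f := hmono, epi_g := hepi }
      rw [ShortComplex.exact_iff_exact_up_to_refinements]
      intro T b hb
      dsimp at b hb
      obtain ⟨T', p, hp, x, hx'⟩ := surjective_up_to_refinements_of_epi (cokernel.π s) b
      have hk : (x ≫ β) ≫ π = 0 := by
        have : (p ≫ b) ≫ g = 0 := by rw [Category.assoc, hb, comp_zero]
        rwa [hx', Category.assoc, cokernel.π_desc, ← Category.assoc] at this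
      let c : T' ⟶ kernel π := kernel.lift π (x ≫ β) hk
      have hq : (x - c ≫ s) ≫ β = 0 := by
        rw [Preadditive.sub_comp, Category.assoc, hx, kernel.lift_ι, sub_self]
      refine ⟨T', p, hp, hE.exact.lift _ hq, ?_⟩
      dsimp
      have hl := hE.exact.lift_f _ hq
      dsimp at hl
      rw [← Category.assoc, hl, Preadditive.sub_comp, Category.assoc, cokernel.condition, comp_zero,
        sub_zero, hx']
    · rw [reassoc_of% hm₁]
    · simp [g, reassoc_of% hm₂]

end Groth.Agent.ExtUnder
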